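import Groth.Agent.PerfGen7.FinitePushPC
import Groth.Agent.PerfGen7.RelLocal
import Groth.Agent.H9Misc.DRingRelPC2

/-!
# Relative pseudo-coherence and finite morphisms
-/

set_option linter.style.haveILetI false
set_option backward.isDefEq.respectTransparency false
set_option backward.isDefEq.respectTransparency.types false

universe u

open CategoryTheory CategoryTheory.Limits AlgebraicGeometry

attribute [local instance] HasDerivedCategory.standard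

namespace Groth.Agent.RelPCFinite

open Groth.Agent.KFlatLib Groth.Agent.H9Misc Groth.Agent.PerfGen7

variable {X Y : Scheme.{u}} (f : X ⟶ Y) [IsFinite f] {W : Y.Opens} (hW : IsAffineOpen W)

include hW in
/-- A module on an affine open and on its preimage. -/
theorem exists_tilde_pair [DCoh.HasRpush f] [IsClosedImmersion W.toSpecΓ] [IsClosedImmersion (f ⁻¹ᵁ W).toSpecΓ] {E : DCoh.D X} (hE : DCoh.IsQCohD E) :
    ∃ M : Dual.D Γ(X, f ⁻¹ᵁ W),
      Nonempty ((DCoh.tildeD Γ(X, f ⁻¹ᵁ W)).obj M ≅ (pushD (f ⁻¹ᵁ W).toSpecΓ).obj ((rho (f ⁻¹ᵁ W).ι).obj E)) ∧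
      Nonempty ((DCoh.tildeD Γ(Y, W)).obj ((DRing.restrictD (f.app W).hom).obj M) ≅
        (pushD W.toSpecΓ).obj ((rho W.ι).obj ((DCoh.Rpush f).obj E))) := by
  haveI := isIso_toSpecΓ hW
  haveI := isIso_toSpecΓ (hW.preimage f)
  let V := f ⁻¹ᵁ W
  let φ := f.app W
  let L := (rho V.ι).obj E
  obtain ⟨M, ⟨e⟩⟩ := exists_tilde_rep (hW.preimage f) hE
  let C := DerivedCategory.Q.objPreimage M
  let eC : DerivedCategory.Q.obj C ≅ M := DerivedCategory.Q.objObjPreimageIso M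
  let c := ComplexShape.up ℤ
  let T := ((tilde.functor Γ(X, V)).mapHomologicalComplex c).obj C
  let eT : DerivedCategory.Q.obj T ≅ (pushD V.toSpecΓ).obj L :=
    (tildeQ C).symm ≪≫ (DCoh.tildeD _).mapIso eC ≪≫ e
  let F := (rCx V.toSpecΓ).obj T
  let eF : L ≅ DerivedCategory.Q.obj F :=
    (restrictPushSelfD V.toSpecΓ L).symm ≪≫ (rho V.toSpecΓ).mapIso eT.symm ≪≫ (rhoQ V.toSpecΓ).app T
  have hq : ∀ n, Coh.IsQCoh (F.X n) := fun n =>
    QCoh.isQCoh_restrict V.toSpecΓ (QCoh.isQCoh_spec_iff.2 ⟨C.X n, ⟨Iso.refl _⟩⟩)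
  haveI := hasRpush_scheme (f ∣_ W)
  obtain ⟨eR⟩ := nonempty_rpush_Q (f ∣_ W) F hq
  obtain ⟨eN⟩ := nonempty_rpush_restrictD_iso f W
  haveI : (ModuleCat.restrictScalars.{u} φ.hom ⋙ tilde.functor Γ(Y, W)).PreservesZeroMorphisms :=
    ⟨fun _ _ => by simp only [Functor.comp_map, Functor.map_zero]⟩
  let η : Scheme.Modules.restrictFunctor V.toSpecΓ ⋙ Scheme.Modules.pushforward (f ∣_ W) ⋙
      Scheme.Modules.pushforward W.toSpecΓ ≅ Scheme.Modules.pushforward (Spec.map φ) :=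
    Functor.isoWhiskerLeft _ (Scheme.Modules.pushforwardComp _ _ ≪≫
      Scheme.Modules.pushforwardCongr (morphismRestrict_toSpecΓ f hW) ≪≫
      (Scheme.Modules.pushforwardComp _ _).symm) ≪≫ (Functor.associator _ _ _).symm ≪≫
      Functor.isoWhiskerRight (pushRestrictSelfIso V.toSpecΓ) _ ≪≫ Functor.leftUnitor _
  let eA : (pushD W.toSpecΓ).obj ((rho W.ι).obj ((DCoh.Rpush f).obj E)) ≅
      (DCoh.tildeD Γ(Y, W)).obj ((DRing.restrictD φ.hom).obj M) :=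
    (pushD W.toSpecΓ).mapIso (eN.app E ≪≫ (DCoh.Rpush (f ∣_ W)).mapIso eF ≪≫ eR) ≪≫
    pushDQ _ _ ≪≫
    DerivedCategory.Q.mapIso ((NatIso.mapHomologicalComplex η c).app T) ≪≫
    DerivedCategory.Q.mapIso ((NatIso.mapHomologicalComplex (pushTildeIso φ) c).app C) ≪≫
    (tildeQ (((ModuleCat.restrictScalars.{u} φ.hom).mapHomologicalComplex c).obj C)).symm ≪≫
    (DCoh.tildeD Γ(Y, W)).mapIso (((ModuleCat.restrictScalars.{u} φ.hom).mapDerivedCategoryFactors.app C).symm ≪≫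
      (DRing.restrictD φ.hom).mapIso eC)
  exact ⟨M, ⟨e⟩, ⟨eA.symm⟩⟩

include hW in
/-- Charts along a finite morphism. -/
theorem immPC_rpush_iff [DCoh.HasRpush f] {E : DCoh.D X} (hE : DCoh.IsQCohD E) {m : ℤ}
    {R : Type u} [CommRing R] {n k : ℕ}
    (α : MvPolynomial (Fin n) R →+* Γ(Y, W)) (hα : Function.Surjective α)
    (β : MvPolynomial (Fin k) R →+* Γ(X, f ⁻¹ᵁ W)) (hβ : Function.Surjective β)
    (hC : β.comp MvPolynomial.C = (f.app W).hom.comp (α.comp MvPolynomial.C)) :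
    ImmPC m E (f ⁻¹ᵁ W) β ↔ ImmPC m ((DCoh.Rpush f).obj E) W α := by
  haveI := isClosedImmersion_toSpecΓ hW
  haveI := isClosedImmersion_toSpecΓ (hW.preimage f)
  obtain ⟨M, ⟨e⟩, ⟨e'⟩⟩ := exists_tilde_pair f hW hE
  haveI := isClosedImmersion_toSpecΓ hW
  haveI := isClosedImmersion_toSpecΓ (hW.preimage f)
  rw [immPC_tilde_iff (hW.preimage f) β hβ M e, immPC_tilde_iff hW α hα _ e']
  letI : Algebra R Γ(Y, W) := (α.comp MvPolynomial.C).toAlgebra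
  letI : Algebra R Γ(X, f ⁻¹ᵁ W) := (β.comp MvPolynomial.C).toAlgebra
  letI : Algebra Γ(Y, W) Γ(X, f ⁻¹ᵁ W) := (f.app W).hom.toAlgebra
  haveI : IsScalarTower R Γ(Y, W) Γ(X, f ⁻¹ᵁ W) := IsScalarTower.of_algebraMap_eq' hC
  haveI : Module.Finite Γ(Y, W) Γ(X, f ⁻¹ᵁ W) := f.finite_app W hW
  let a : MvPolynomial (Fin n) R →ₐ[R] Γ(Y, W) := { α with commutes' := fun _ => rfl }
  let b : MvPolynomial (Fin k) R →ₐ[R] Γ(X, f ⁻¹ᵁ W) := { β with commutes' := fun _ => rfl }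
  haveI : Algebra.FiniteType R Γ(Y, W) := Algebra.FiniteType.of_surjective a hα
  exact (DRingRelPC.iff_via b hβ M m).symm.trans
    ((DRingRelPC.finite_iff M m).trans (DRingRelPC.iff_via a hα _ m))

variable {S : Scheme.{u}}

/-- S7210 -/
theorem rel_iff_rpush (p : X ⟶ S) (q : Y ⟶ S) [LocallyOfFiniteType p] [LocallyOfFiniteType q]
    (w : f ≫ q = p) [DCoh.HasRpush f] (m : ℤ) (E : DCoh.D X) (hE : DCoh.IsQCohD E) :
    DerSch.IsPseudoCoherentRel p m E ↔ DerSch.IsPseudoCoherentRel q m ((DCoh.Rpush f).obj E) := by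
  subst w
  have key : ∀ (V : S.Opens) (W : Y.Opens), IsAffineOpen V → IsAffineOpen W → W ≤ q ⁻¹ᵁ V →
      ∃ (h : W ≤ q ⁻¹ᵁ V) (h' : f ⁻¹ᵁ W ≤ (f ≫ q) ⁻¹ᵁ V) (n : ℕ) (α : MvPolynomial (Fin n) Γ(S, V) →+* Γ(Y, W))
        (k : ℕ) (β : MvPolynomial (Fin k) Γ(S, V) →+* Γ(X, f ⁻¹ᵁ W)),
        DerSch.IsChart q W V h α ∧ DerSch.IsChart (f ≫ q) (f ⁻¹ᵁ W) V h' β ∧
        (ImmPC m E (f ⁻¹ᵁ W) β ↔ ImmPC m ((DCoh.Rpush f).obj E) W α) := by
    intro V W hV hW h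
    have h' : f ⁻¹ᵁ W ≤ (f ≫ q) ⁻¹ᵁ V := fun x hx => h hx
    obtain ⟨n, α, hα⟩ := exists_chart_of_affine (f := q) hW hV h
    obtain ⟨k, β, hβ⟩ := exists_chart_of_affine (f := f ≫ q) (hW.preimage f) hV h'
    refine ⟨h, h', n, α, k, β, hα, hβ, immPC_rpush_iff f hW hE α hα.1 β hβ.1 ?_⟩
    rw [hβ.2, hα.2, ← CommRingCat.hom_comp, Scheme.Hom.app_eq_appLE, Scheme.Hom.appLE_comp_appLE]
  constructor
  · intro H
    refine isPseudoCoherentRel_iff.2 fun y => ?_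
    obtain ⟨V, hV, hyV, -⟩ := exists_isAffineOpen_mem_and_subset (x := q y) (U := (⊤ : S.Opens)) trivial
    obtain ⟨W, hW, hyW, hWV⟩ := exists_isAffineOpen_mem_and_subset (x := y) (U := q ⁻¹ᵁ V) hyV
    obtain ⟨h, h', n, α, k, β, hα, hβ, hiff⟩ := key V W hV hW hWV
    exact ⟨W, V, hyW, hW, hV, h, n, α, hα,
      hiff.1 ((chartPC_iff (hW.preimage f) β hβ.1).1 (chartPC_of_rel H (hW.preimage f) hV h' β hβ))⟩
  · intro H
    refine isPseudoCoherentRel_iff.2 fun x => ?_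
    obtain ⟨V, hV, hyV, -⟩ := exists_isAffineOpen_mem_and_subset (x := q (f x)) (U := (⊤ : S.Opens)) trivial
    obtain ⟨W, hW, hyW, hWV⟩ := exists_isAffineOpen_mem_and_subset (x := f x) (U := q ⁻¹ᵁ V) hyV
    obtain ⟨h, h', n, α, k, β, hα, hβ, hiff⟩ := key V W hV hW hWV
    exact ⟨f ⁻¹ᵁ W, V, hyW, hW.preimage f, hV, h', k, β, hβ,
      hiff.2 ((chartPC_iff hW α hα.1).1 (chartPC_of_rel H hW hV h α hα))⟩

end Groth.Agent.RelPCFinite
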